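import Mathlib
import Cfsg.Agent.Lib.Helper6.BG.S1437Defs
import Cfsg.Agent.S1446
import Cfsg.Agent.Lib.Helper61.CoprimeAb
import Cfsg.Agent.Lib.Helper91.Coprime
import Cfsg.Agent.Lib.Helper57.HSubA

/-!
# S1437 package PK5 ("Lemma L"): the landed S1446 in the quotient `(T ⊔ D ⊔ K)/Y`

The quotient is realised as `N_G(Y) ⧸ Y`; `qim` is the image of a subgroup of `G` there.
-/

set_option autoImplicit false

namespace Cfsg.Agent.Lib.Helper33.BG37

open Subgroup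

universe u

section quot

variable {G : Type u} [Group G] {X : Type u} [Group X] (N : Subgroup G) (π : ↥N →* X)

/-- The image in `X` of (the part in `N` of) a subgroup `H` of `G`. -/
def qim (H : Subgroup G) : Subgroup X := (H.subgroupOf N).map π

theorem mem_qim {H : Subgroup G} {x : X} :
    x ∈ qim N π H ↔ ∃ h, ∃ hN : h ∈ N, h ∈ H ∧ π ⟨h, hN⟩ = x := by
  constructor
  · rintro ⟨a, ha, rfl⟩
    exact ⟨a.1, a.2, Subgroup.mem_subgroupOf.mp ha, rfl⟩
  · rintro ⟨h, hN, hH, rfl⟩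
    exact ⟨⟨h, hN⟩, Subgroup.mem_subgroupOf.mpr hH, rfl⟩

theorem qim_mono {H₁ H₂ : Subgroup G} (h : H₁ ≤ H₂) : qim N π H₁ ≤ qim N π H₂ := by
  intro x hx
  rw [mem_qim] at hx ⊢
  obtain ⟨a, haN, ha, rfl⟩ := hx
  exact ⟨a, haN, h ha, rfl⟩

theorem card_qim_dvd [Finite G] {H : Subgroup G} (hH : H ≤ N) :
    Nat.card (qim N π H) ∣ Nat.card H := by
  have h1 : Nat.card (qim N π H) ∣ Nat.card (H.subgroupOf N) := Subgroup.card_map_dvd _ _
  have h2 : Nat.card (H.subgroupOf N) = Nat.card H :=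
    Nat.card_congr (Subgroup.subgroupOfEquivOfLe hH).toEquiv
  rwa [h2] at h1

theorem solvable_qim {H : Subgroup G} (hH : H ≤ N) (hs : Group.IsSolvable ↥H) :
    Group.IsSolvable ↥(qim N π H) := by
  have : Group.IsSolvable ↥(H.subgroupOf N) :=
    Group.isSolvable_of_isSolvable_injective (f := (Subgroup.subgroupOfEquivOfLe hH).toMonoidHom)
      (Subgroup.subgroupOfEquivOfLe hH).injective
  exact Group.isSolvable_of_surjective (π.subgroupMap_surjective (H.subgroupOf N))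

theorem isPGroup_qim {q : ℕ} {H : Subgroup G} (hH : IsPGroup q H) :
    IsPGroup q ↥(qim N π H) :=
  (hH.comap_subtype (K := N)).map π

theorem qim_le_normalizer [Finite X] {A B : Subgroup G} (h : A ≤ normalizer (B : Set G)) :
    qim N π A ≤ normalizer (qim N π B : Set X) := by
  intro x hx
  rw [mem_qim] at hx
  obtain ⟨a, haN, ha, rfl⟩ := hx
  apply Cfsg.Agent.Lib.Helper57.HSub.mem_normalizer_of_conj_mem
  intro y hy
  rw [mem_qim] at hy ⊢
  obtain ⟨b, hbN, hb, rfl⟩ := hy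
  refine ⟨a * b * a⁻¹, N.mul_mem (N.mul_mem haN hbN) (N.inv_mem haN), ?_, ?_⟩
  · exact (Subgroup.le_normalizer_iff.mp h) a ha b hb
  · rw [← map_inv, ← map_mul, ← map_mul]
    rfl

theorem card_qim_eq {H : Subgroup G} (hH : H ≤ N)
    (hinj : ∀ h ∈ H, ∀ hN : h ∈ N, π ⟨h, hN⟩ = 1 → h = 1) :
    Nat.card (qim N π H) = Nat.card H := by
  symm
  refine Nat.card_congr (Equiv.ofBijective
    (fun h : ↥H => (⟨π ⟨h.1, hH h.2⟩, (mem_qim N π).mpr ⟨h.1, hH h.2, h.2, rfl⟩⟩ : ↥(qim N π H)))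
    ⟨?_, ?_⟩)
  · intro a b hab
    have h1 : π ⟨a.1, hH a.2⟩ = π ⟨b.1, hH b.2⟩ := congrArg Subtype.val hab
    have h2 : π ⟨a.1⁻¹ * b.1, N.mul_mem (N.inv_mem (hH a.2)) (hH b.2)⟩ = 1 := by
      have h3 : (⟨a.1⁻¹ * b.1, N.mul_mem (N.inv_mem (hH a.2)) (hH b.2)⟩ : ↥N) =
          (⟨a.1, hH a.2⟩ : ↥N)⁻¹ * ⟨b.1, hH b.2⟩ := rfl
      rw [h3, map_mul, map_inv, h1, inv_mul_cancel]
    have h4 := hinj _ (H.mul_mem (H.inv_mem a.2) b.2) _ h2
    exact Subtype.ext (inv_mul_eq_one.mp h4)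
  · rintro ⟨x, hx⟩
    rw [mem_qim] at hx
    obtain ⟨h, hN, hh, rfl⟩ := hx
    exact ⟨⟨h, hh⟩, rfl⟩

theorem card_qim_mul [Finite G] {H Y : Subgroup G} (hH : H ≤ N) (hYH : Y ≤ H)
    (hker : ∀ a : ↥N, π a = 1 ↔ (a : G) ∈ Y) :
    Nat.card H = Nat.card Y * Nat.card (qim N π H) := by
  let f : ↥H →* X := π.comp (Subgroup.inclusion hH)
  have hrange : f.range = qim N π H := by
    ext x
    rw [mem_qim, MonoidHom.mem_range]
    constructor
    · rintro ⟨h, rfl⟩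
      exact ⟨h.1, hH h.2, h.2, rfl⟩
    · rintro ⟨h, hN, hh, rfl⟩
      exact ⟨⟨h, hh⟩, rfl⟩
  have hkerf : f.ker = Y.subgroupOf H := by
    ext h
    rw [MonoidHom.mem_ker, Subgroup.mem_subgroupOf]
    exact hker _
  have h1 := Subgroup.card_mul_index f.ker
  rw [Subgroup.index_ker, hrange, hkerf] at h1
  have h2 : Nat.card (Y.subgroupOf H) = Nat.card Y :=
    Nat.card_congr (Subgroup.subgroupOfEquivOfLe hYH).toEquiv
  rw [h2] at h1
  exact h1.symm

end quot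

/-- Package PK5 ("Lemma L") of the S1437 project. -/
theorem pk5 : Cfsg.Agent.Lib.Helper6.BG37.PK5.{u} := by
  intro G _ _ q hq T D K Y hT hDT hKT hKD hsolv hodd hcop hK1 hfrob hpr hCq hTD hYT hTT hDY hKY
  classical
  have : Fact q.Prime := ⟨hq⟩
  have hYleT : Y ≤ T := hYT.le
  -- `T` normalizes `Y`
  have hTY : T ≤ normalizer (Y : Set G) := by
    rw [Subgroup.le_normalizer_iff]
    intro t ht y hy
    have h1 := hTT (Subgroup.commutator_mem_commutator ht (hYleT hy))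
    rw [commutatorElement_def] at h1
    have h2 : t * y * t⁻¹ = (t * y * t⁻¹ * y⁻¹) * y := by group
    rw [h2]
    exact Y.mul_mem h1 hy
  have hYq : IsPGroup q Y := hT.to_le hYleT
  -- elements of `Y ∩ (D ⊔ K)` are trivial
  have hDKY : ∀ x, x ∈ D ⊔ K → x ∈ Y → x = 1 := by
    intro x hx hxY
    obtain ⟨n, hn⟩ := hYq ⟨x, hxY⟩
    have h1 : x ^ q ^ n = 1 := by
      have := congrArg Subtype.val hn
      simpa using this
    have h3 : (Nat.card ↥(D ⊔ K)).Coprime (q ^ n) := Nat.Coprime.pow_right n hcop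
    have h4 : orderOf x ∣ Nat.gcd (Nat.card ↥(D ⊔ K)) (q ^ n) :=
      Nat.dvd_gcd (Subgroup.orderOf_dvd_natCard _ hx) (orderOf_dvd_of_pow_eq_one h1)
    rw [Nat.Coprime] at h3
    rw [h3] at h4
    exact orderOf_eq_one_iff.mp (Nat.dvd_one.mp h4)
  set N : Subgroup G := normalizer (Y : Set G) with hNdef
  have hDN : D ≤ N := hDY
  have hKN : K ≤ N := hKY
  have hTN : T ≤ N := hTY
  have hYN : Y ≤ N := Subgroup.le_normalizer
  have hDKN : D ⊔ K ≤ N := sup_le hDN hKN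
  have hnorm : (Y.subgroupOf N).Normal := Subgroup.normal_in_normalizer
  let π : ↥N →* ↥N ⧸ Y.subgroupOf N := QuotientGroup.mk' (Y.subgroupOf N)
  have hπ1 : ∀ a : ↥N, π a = 1 ↔ (a : G) ∈ Y := by
    intro a
    show (QuotientGroup.mk' (Y.subgroupOf N)) a = 1 ↔ _
    rw [QuotientGroup.mk'_apply, QuotientGroup.eq_one_iff, Subgroup.mem_subgroupOf]
  have hπeq : ∀ a b : ↥N, π a = π b ↔ (a : G)⁻¹ * (b : G) ∈ Y := by
    intro a b
    have h1 : π a = π b ↔ π (a⁻¹ * b) = 1 := by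
      rw [map_mul, map_inv, inv_mul_eq_one]
    rw [h1, hπ1]
    rfl
  have hπone : ∀ h1N : (1 : G) ∈ N, π ⟨1, h1N⟩ = 1 := fun h1N => (hπ1 _).mpr Y.one_mem
  -- nontriviality
  have hD1 : D ≠ ⊥ := by
    rintro rfl
    have h1 : T = ⊥ := by
      rw [← hTD]
      exact Subgroup.commutator_bot_right T
    rw [h1] at hYT
    exact not_lt_bot hYT
  have hne_of : ∀ H : Subgroup G, H ≤ D ⊔ K → H ≠ ⊥ → qim N π H ≠ ⊥ := by
    intro H hH hH1 hbot
    obtain ⟨a, ha1⟩ := (Subgroup.ne_bot_iff_exists_ne_one (H := H)).mp hH1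
    have h1 : π ⟨a.1, hDKN (hH a.2)⟩ ∈ qim N π H :=
      (mem_qim N π).mpr ⟨a.1, hDKN (hH a.2), a.2, rfl⟩
    rw [hbot, Subgroup.mem_bot] at h1
    have h2 := hDKY a.1 (hH a.2) ((hπ1 _).mp h1)
    exact ha1 (Subtype.ext h2)
  have hD1' : qim N π D ≠ ⊥ := hne_of D le_sup_left hD1
  have hK1' : qim N π K ≠ ⊥ := hne_of K le_sup_right hK1
  have hDK_inf : D ⊓ K = ⊥ := by
    rw [eq_bot_iff]
    intro k hk
    rw [Subgroup.mem_bot]
    by_contra hk1
    have h1 : k ∈ D ⊓ centralizer ({k} : Set G) :=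
      Subgroup.mem_inf.mpr ⟨hk.1, Subgroup.mem_centralizer_singleton_iff.mpr rfl⟩
    rw [hfrob k hk.2 hk1] at h1
    exact hk1 (Subgroup.mem_bot.mp h1)
  have hKR' : qim N π D ⊓ qim N π K = ⊥ := by
    rw [eq_bot_iff]
    intro x hx
    obtain ⟨hx1, hx2⟩ := Subgroup.mem_inf.mp hx
    rw [mem_qim] at hx1 hx2
    obtain ⟨d, hdN, hd, rfl⟩ := hx1
    obtain ⟨k, hkN, hk, hkd⟩ := hx2
    have h1 : k⁻¹ * d ∈ Y := (hπeq ⟨k, hkN⟩ ⟨d, hdN⟩).mp hkd
    have h2 : k⁻¹ * d = 1 :=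
      hDKY _ (mul_mem (inv_mem (mem_sup_right hk)) (mem_sup_left hd)) h1
    have h3 : d = k := by
      rw [inv_mul_eq_one] at h2
      exact h2.symm
    subst h3
    have h4 : d ∈ D ⊓ K := ⟨hd, hk⟩
    rw [hDK_inf, Subgroup.mem_bot] at h4
    subst h4
    rw [Subgroup.mem_bot]
    exact hπone _
  have hRK' : qim N π K ≤ normalizer (qim N π D : Set _) := qim_le_normalizer N π hKD
  have hfrob' : ∀ r ∈ qim N π K, r ≠ 1 →
      qim N π D ⊓ centralizer ({r} : Set (↥N ⧸ Y.subgroupOf N)) = ⊥ := by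
    intro r hr hr1
    rw [mem_qim] at hr
    obtain ⟨k, hkN, hk, rfl⟩ := hr
    have hk1 : k ≠ 1 := by
      rintro rfl
      exact hr1 (hπone _)
    rw [eq_bot_iff]
    intro x hx
    obtain ⟨hx1, hx2⟩ := Subgroup.mem_inf.mp hx
    rw [mem_qim] at hx1
    obtain ⟨d, hdN, hd, rfl⟩ := hx1
    rw [Subgroup.mem_centralizer_singleton_iff] at hx2
    have h1 : (k * d)⁻¹ * (d * k) ∈ Y := by
      refine (hπeq ⟨k * d, N.mul_mem hkN hdN⟩ ⟨d * k, N.mul_mem hdN hkN⟩).mp ?_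
      show π (⟨k, hkN⟩ * ⟨d, hdN⟩) = π (⟨d, hdN⟩ * ⟨k, hkN⟩)
      rw [map_mul, map_mul]
      exact hx2.symm
    have h2 : (k * d)⁻¹ * (d * k) ∈ D := by
      have h3 : k⁻¹ * d * k⁻¹⁻¹ ∈ D :=
        (Subgroup.le_normalizer_iff.mp hKD) k⁻¹ (K.inv_mem hk) d hd
      have h4 : (k * d)⁻¹ * (d * k) = d⁻¹ * (k⁻¹ * d * k⁻¹⁻¹) := by group
      rw [h4]
      exact D.mul_mem (D.inv_mem hd) h3
    have h5 : (k * d)⁻¹ * (d * k) = 1 := hDKY _ (mem_sup_left h2) h1
    have h6 : k * d = d * k := inv_mul_eq_one.mp h5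
    have h7 : d ∈ D ⊓ centralizer ({k} : Set G) :=
      Subgroup.mem_inf.mpr ⟨hd, Subgroup.mem_centralizer_singleton_iff.mpr h6.symm⟩
    rw [hfrob k hk hk1, Subgroup.mem_bot] at h7
    subst h7
    rw [Subgroup.mem_bot]
    exact hπone _
  have hsup_le : qim N π D ⊔ qim N π K ≤ qim N π (D ⊔ K) :=
    sup_le (qim_mono N π le_sup_left) (qim_mono N π le_sup_right)
  have hsolvI : Group.IsSolvable ↥(qim N π (D ⊔ K)) := solvable_qim N π hDKN hsolv
  have hsolv' : Group.IsSolvable ↥(qim N π D ⊔ qim N π K) :=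
    Group.isSolvable_of_isSolvable_injective (Subgroup.inclusion_injective hsup_le)
  have hcard1 : Nat.card ↥(qim N π D ⊔ qim N π K) ∣ Nat.card ↥(D ⊔ K) :=
    (Subgroup.card_dvd_of_le hsup_le).trans (card_qim_dvd N π hDKN)
  have hodd' : Odd (Nat.card ↥(qim N π D ⊔ qim N π K)) := hodd.of_dvd_nat hcard1
  have hM1 : qim N π T ≠ ⊥ := by
    intro hbot
    apply hYT.not_ge
    intro t ht
    have h1 : π ⟨t, hTN ht⟩ ∈ qim N π T := (mem_qim N π).mpr ⟨t, hTN ht, ht, rfl⟩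
    rw [hbot, Subgroup.mem_bot] at h1
    exact (hπ1 _).mp h1
  have hMp : IsPGroup q ↥(qim N π T) := isPGroup_qim N π hT
  have hMn : Group.IsNilpotent ↥(qim N π T) := hMp.isNilpotent
  have hKM : qim N π D ≤ normalizer (qim N π T : Set _) := qim_le_normalizer N π hDT
  have hRM : qim N π K ≤ normalizer (qim N π T : Set _) := qim_le_normalizer N π hKT
  have hcop' : (Nat.card ↥(qim N π D ⊔ qim N π K)).Coprime (Nat.card ↥(qim N π T)) := by
    obtain ⟨n, hn⟩ := IsPGroup.iff_card.mp hMp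
    rw [hn]
    exact Nat.Coprime.pow_right n (Nat.Coprime.coprime_dvd_left hcard1 hcop)
  have hcopDT : (Nat.card ↥(qim N π D)).Coprime (Nat.card ↥(qim N π T)) :=
    Nat.Coprime.coprime_dvd_left (Subgroup.card_dvd_of_le le_sup_left) hcop'
  have hTDsub : ⁅T.subgroupOf N, D.subgroupOf N⁆ = T.subgroupOf N := by
    apply Subgroup.map_injective N.subtype_injective
    rw [Subgroup.map_commutator, Subgroup.map_subgroupOf_eq_of_le hTN,
      Subgroup.map_subgroupOf_eq_of_le hDN, hTD]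
  have hTD' : ⁅qim N π T, qim N π D⁆ = qim N π T := by
    unfold qim
    rw [← Subgroup.map_commutator, hTDsub]
  have hab : ⁅qim N π T, qim N π T⁆ = ⊥ := by
    unfold qim
    rw [← Subgroup.map_commutator, eq_bot_iff, Subgroup.map_le_iff_le_comap]
    intro x hx
    have h1 : (x : G) ∈ ⁅T, T⁆ := by
      have h2 : N.subtype x ∈ (⁅T.subgroupOf N, T.subgroupOf N⁆).map N.subtype :=
        Subgroup.mem_map_of_mem _ hx
      rw [Subgroup.map_commutator, Subgroup.map_subgroupOf_eq_of_le hTN] at h2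
      exact h2
    rw [Subgroup.mem_comap, Subgroup.mem_bot]
    exact (hπ1 x).mpr (hTT h1)
  have hCK : qim N π T ⊓ centralizer (qim N π D : Set (↥N ⧸ Y.subgroupOf N)) = ⊥ := by
    have h1 := Cfsg.Agent.Lib.Helper61.inf_centralizer_le_commutator_of_commutator_eq
      (qim N π T) (qim N π D) hKM hcopDT hTD'
    rw [hab] at h1
    exact eq_bot_iff.mpr h1
  have hTsolv : Group.IsSolvable ↥T := by
    have := hT.isNilpotent
    infer_instance
  -- lifting fixed points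
  have hlift : ∀ k ∈ K, k ≠ 1 → ∀ hkN : k ∈ N,
      qim N π T ⊓ centralizer ({π ⟨k, hkN⟩} : Set (↥N ⧸ Y.subgroupOf N)) ≤
        qim N π (T ⊓ centralizer (K : Set G)) := by
    intro k hk hk1 hkN x hx
    obtain ⟨hx1, hx2⟩ := Subgroup.mem_inf.mp hx
    rw [mem_qim] at hx1
    obtain ⟨t, htN, ht, rfl⟩ := hx1
    rw [Subgroup.mem_centralizer_singleton_iff] at hx2
    have hA_le : zpowers k ≤ K := by
      rw [Subgroup.zpowers_le]
      exact hk
    have hAT : zpowers k ≤ normalizer (T : Set G) := hA_le.trans hKT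
    have hAY : zpowers k ≤ normalizer (Y : Set G) := hA_le.trans hKY
    have hcopA : (Nat.card (zpowers k)).Coprime (Nat.card T) := by
      obtain ⟨n, hn⟩ := IsPGroup.iff_card.mp hT
      rw [hn]
      apply Nat.Coprime.pow_right
      exact Nat.Coprime.coprime_dvd_left (Subgroup.card_dvd_of_le (hA_le.trans le_sup_right)) hcop
    have hinv : ∀ a ∈ zpowers k, a⁻¹ * t⁻¹ * a * t ∈ Y := by
      intro a ha
      have haN : a ∈ N := hKN (hA_le ha)
      have hcomm : π ⟨t, htN⟩ * π ⟨a, haN⟩ = π ⟨a, haN⟩ * π ⟨t, htN⟩ := by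
        obtain ⟨n, rfl⟩ := Subgroup.mem_zpowers_iff.mp ha
        have h1 : (⟨k ^ n, haN⟩ : ↥N) = (⟨k, hkN⟩ : ↥N) ^ n := by
          apply Subtype.ext
          simp
        rw [h1, map_zpow]
        exact ((show Commute (π ⟨t, htN⟩) (π ⟨k, hkN⟩) from hx2).zpow_right n).eq
      have h2 := (hπeq ⟨t * a, N.mul_mem htN haN⟩ ⟨a * t, N.mul_mem haN htN⟩).mp (by
        show π (⟨t, htN⟩ * ⟨a, haN⟩) = π (⟨a, haN⟩ * ⟨t, htN⟩)
        rw [map_mul, map_mul]
        exact hcomm)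
      have h3 : a⁻¹ * t⁻¹ * a * t = (t * a)⁻¹ * (a * t) := by group
      rw [h3]
      exact h2
    obtain ⟨d, hd, hcd⟩ := Cfsg.Agent.Lib.Helper91.exists_mem_centralizer_coset (zpowers k) T hAT
      hcopA (Or.inr hTsolv) Y hYleT hAY t ht hinv
    have h3 : t * d ∈ T ⊓ centralizer ({k} : Set G) := by
      refine Subgroup.mem_inf.mpr ⟨T.mul_mem ht (hYleT hd), ?_⟩
      rw [Subgroup.mem_centralizer_singleton_iff]
      exact (Subgroup.mem_centralizer_iff.mp hcd k (Subgroup.mem_zpowers k)).symm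
    rw [hpr k hk hk1] at h3
    rw [mem_qim]
    refine ⟨t * d, N.mul_mem htN (hYN hd), h3, ?_⟩
    rw [hπeq]
    show (t * d)⁻¹ * t ∈ Y
    have h4 : (t * d)⁻¹ * t = d⁻¹ := by group
    rw [h4]
    exact Y.inv_mem hd
  have hfix_le : qim N π (T ⊓ centralizer (K : Set G)) ≤
      qim N π T ⊓ centralizer (qim N π K : Set (↥N ⧸ Y.subgroupOf N)) := by
    intro x hx
    rw [mem_qim] at hx
    obtain ⟨t, htN, ht, rfl⟩ := hx
    refine Subgroup.mem_inf.mpr ⟨(mem_qim N π).mpr ⟨t, htN, ht.1, rfl⟩, ?_⟩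
    rw [Subgroup.mem_centralizer_iff]
    intro y hy
    rw [SetLike.mem_coe, mem_qim] at hy
    obtain ⟨k, hkN, hk, rfl⟩ := hy
    rw [← map_mul, ← map_mul]
    congr 1
    apply Subtype.ext
    exact Subgroup.mem_centralizer_iff.mp ht.2 k hk
  have hpr' : ∀ x ∈ qim N π K, x ≠ 1 →
      qim N π T ⊓ centralizer ({x} : Set (↥N ⧸ Y.subgroupOf N)) =
        qim N π T ⊓ centralizer (qim N π K : Set (↥N ⧸ Y.subgroupOf N)) := by
    intro x hx hx1
    have hx' := hx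
    rw [mem_qim] at hx'
    obtain ⟨k, hkN, hk, rfl⟩ := hx'
    have hk1 : k ≠ 1 := by
      rintro rfl
      exact hx1 (hπone _)
    apply le_antisymm
    · exact (hlift k hk hk1 hkN).trans hfix_le
    · exact inf_le_inf_left _ (Subgroup.centralizer_le (Set.singleton_subset_iff.mpr hx))
  obtain ⟨hprime, hcard, -⟩ := Cfsg.Agent.S1446.result (qim N π D) (qim N π K) (qim N π T)
    hD1' hK1' hKR' hRK' hfrob' hsolv' hodd' hM1 hMn hKM hRM hcop' hCK hpr'
  obtain ⟨k, hk1⟩ := (Subgroup.ne_bot_iff_exists_ne_one (H := K)).mp hK1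
  have hk1' : (k : G) ≠ 1 := fun h => hk1 (Subtype.ext h)
  have hfixeq : qim N π T ⊓ centralizer (qim N π K : Set (↥N ⧸ Y.subgroupOf N)) =
      qim N π (T ⊓ centralizer (K : Set G)) := by
    apply le_antisymm
    · have h1 : qim N π T ⊓ centralizer (qim N π K : Set (↥N ⧸ Y.subgroupOf N)) ≤
          qim N π T ⊓ centralizer ({π ⟨k.1, hKN k.2⟩} : Set (↥N ⧸ Y.subgroupOf N)) :=
        inf_le_inf_left _ (Subgroup.centralizer_le (Set.singleton_subset_iff.mpr
          ((mem_qim N π).mpr ⟨k.1, hKN k.2, k.2, rfl⟩)))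
      exact h1.trans (hlift k.1 k.2 hk1' (hKN k.2))
    · exact hfix_le
  have hc_dvd : Nat.card ↥(qim N π T ⊓ centralizer (qim N π K : Set (↥N ⧸ Y.subgroupOf N))) ∣ q := by
    rw [hfixeq]
    exact (card_qim_dvd N π (inf_le_left.trans hTN)).trans hCq
  have hKcard : Nat.card ↥(qim N π K) = Nat.card K := by
    apply card_qim_eq N π hKN
    intro h hh hN hh1
    exact hDKY h (mem_sup_right hh) ((hπ1 _).mp hh1)
  rcases (Nat.dvd_prime hq).mp hc_dvd with h1 | h1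
  · exfalso
    rw [h1, one_pow] at hcard
    exact hM1 (Subgroup.card_eq_one.mp hcard)
  · rw [h1] at hcard
    refine ⟨hKcard ▸ hprime, ?_, ?_⟩
    · rw [card_qim_mul N π hTN hYleT hπ1, hcard, hKcard]
    · intro hle
      have h2 : qim N π (T ⊓ centralizer (K : Set G)) = ⊥ := by
        rw [eq_bot_iff]
        intro x hx
        rw [mem_qim] at hx
        obtain ⟨t, htN, ht, rfl⟩ := hx
        rw [Subgroup.mem_bot]
        exact (hπ1 _).mpr (hle ht)
      rw [← hfixeq] at h2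
      rw [h2, Subgroup.card_bot] at h1
      exact hq.one_lt.ne h1

end Cfsg.Agent.Lib.Helper33.BG37
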